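/-
Coset enumeration data, found by a computer search; checked by `decide +kernel`.
-/
import Cfsg.Agent.Lib.Spor.TC.Check

namespace CfsgLib.Spor.Suz.Perfect

open CfsgLib.Spor.TC

def edgeTbl : Tbl :=
  .bin (.tip 0xc0000d20000c0000d10000d0000030000c0000d0000010000c3000000000120000a0000050000b0000150000a0000b10000b0000020000a0000b0000010000a20000000001100002000005000010000350000000003100005000015000060000050000000004500007000015000090000350000200008500009000001000080000900000700008100006000070000050000610000400005000003000041000020000300000100002100000000010) (.tip 0x4000000000030000c000005000000000c40000f000005000100000c50000e0000c50000e0001050000f000115000110000e3000100001140000f0001030000c0000f4000000000e40000c0000030000c0000c20000c0000c10000c0000d500000000002000000000010000000000000000000015)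

def nodeTbl : Tbl :=
  .bin (.tip 0x1040000f30000c40000040000c00000130000a0000012000080000071000060000051000040000031000020000011000000000000) (.none)

def rowTbl : Tbl :=
  .bin (.tip 0x0) (.none)

def rels : List (List ℕ) := [[0, 1, 0, 1, 0, 1, 0, 1, 0, 1], [0, 2, 0, 2], [0, 3, 0, 3], [0, 4, 0, 4], [1, 2, 1, 2, 1, 2], [1, 3, 1, 3], [1, 4, 1, 4], [2, 3, 2, 3, 2, 3, 2, 3, 2, 3, 2, 3, 2, 3, 2, 3], [2, 4, 2, 4], [3, 4, 3, 4, 3, 4], [0, 3, 2, 3, 2, 3, 2, 3, 2], [1, 2, 3, 2, 3, 1, 2, 3, 2, 3, 1, 2, 3, 2, 3, 1, 2, 3, 2, 3, 1, 2, 3, 2, 3, 4, 1, 2, 3, 2, 3, 1, 2, 3, 2, 3, 1, 2, 3, 2, 3, 1, 2, 3, 2, 3, 1, 2, 3, 2, 3, 4, 1, 2, 3, 2, 3, 1, 2, 3, 2, 3, 1, 2, 3, 2, 3, 1, 2, 3, 2, 3, 1, 2, 3, 2, 3, 4], [0, 0, 0, 0], [0, 1, 0, 1], [0, 2, 0, 2], [0, 3, 0, 3], [0, 4, 0, 4], [1, 0, 1, 0], [1, 1, 1, 1], [1, 2, 1, 2], [1, 3, 1, 3], [1, 4, 1, 4], [2, 0, 2, 0], [2, 1, 2, 1], [2, 2, 2, 2], [2, 3, 2, 3], [2, 4, 2, 4],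 [3, 0, 3, 0], [3, 1, 3, 1], [3, 2, 3, 2], [3, 3, 3, 3], [3, 4, 3, 4], [4, 0, 4, 0], [4, 1, 4, 1], [4, 2, 4, 2], [4, 3, 4, 3], [4, 4, 4, 4]]

def subs : List (List ℕ) := []

noncomputable def cert : Cert :=
  ⟨5, rels, subs, edgeTbl.get 44, nodeTbl.get 24, rowTbl.get 20⟩

end CfsgLib.Spor.Suz.Perfect
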