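/-
Coset enumeration certificate, found by a computer search.
-/
import Cfsg.Agent.Lib.Spor.Suz.Perfect.Data

namespace CfsgLib.Spor.Suz.Perfect

open CfsgLib.Spor.TC

def scodes0_0 : List ℕ :=
  [0x1,
   0x1,
   0x1,
   0x1,
   0x1,
   0x1,
   0x1,
   0x1,
   0x1,
   0x20000400006000080000a0000c0000e00010000120000a000010000100002,
   0x1200014000020000400005000090000e00002,
   0x5000160001200004,
   0x4000160000f00004,
   0x7000170001400004,
   0x2000190000d00004,
   0x10001c0000a00004,
   0x80001b00004,
   0x210001d0000b0002000004,
   0x2000240000500004,
   0x40002600004,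
   0x1,
   0x1,
   0x20002a0002c00004000010000200002,
   0x2e000280002a000040000c0001800002,
   0x270002d0002f00029000270002d00007000020000500002,
   0x2000310002b00004,
   0x2a0003400004,
   0x1,
   0x1,
   0x2000380003a00004000010000300002,
   0x3c0002800038000040000e0001d00002,
   0x3c0003600038000040000e0001e00002,
   0x10003b0003f00037000350003b0003f00037000350000a000020000b00002,
   0x20004100004,
   0x280004100004,
   0x360004100004,
   0x3c000420003800004,
   0x3e0004900004,
   0x400004900004,
   0x3b0004900004,
   0x1,
   0x1,
   0x1,
   0x1,
   0x510004f00054000560005800005000010000a00002,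
   0x5a000510004f0005400005000120002000002,
   0x550005c0005a00004,
   0x540005c000570005d00004,
   0x5f0005e00004,
   0x4f000610005500004,
   0x540006400004,
   0x45000470004f0004d0005000045000470004f0004d0005000045000470004f0004d0005000045000470004f0004d0005000045000470004f0004d00050000660004b0004d00050000470004f0004b0004d00050000470004f0004b0004d00050000470004f0004b0004d00050000470004f0004b0004d00050000470004f0006500045000470004f0004d0005000045000470004f0004d0005000045000470004f0004d0005000045000470004f0004d0005000045000470004f0004d00050000660004f000010000c00002,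
   0x4f0006800004,
   0x660006800004]

def scodes0_ : List ℕ :=
  scodes0_0

set_option maxRecDepth 100000 in
theorem steps0 : cert.StepsOK 0 54 :=
  Cert.StepsOK.of_check _ (codes := scodes0_) (by decide +kernel)

def rcodes0_0 : List ℕ :=
  [0x6b0000100006900001000047000010000450000100004300001]

def rcodes0_ : List ℕ :=
  rcodes0_0

set_option maxRecDepth 100000 in
theorem rows0 : cert.RowsOK 54 1 0 1 :=
  Cert.RowsOK.of_check _ (codes := rcodes0_) (by decide +kernel)

end CfsgLib.Spor.Suz.Perfect
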